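import Groth.Agent.H16Derived.MVPush.Main
import Groth.Agent.H16Derived.QCohD.MV
import Groth.Agent.H16Derived.KFlat.PerfSummand
import Groth.Agent.H17.FPExt.Colimit
import Groth.Prelude.Def_CohB1

/-!
# Objects supported in an open
-/

set_option autoImplicit false
set_option linter.style.haveILetI false

universe u

open CategoryTheory CategoryTheory.Limits AlgebraicGeometry Opposite TopologicalSpace
  CategoryTheory.Pretriangulated

attribute [local instance] HasDerivedCategory.standard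

namespace Groth.Agent.H16Derived.MVPush

open Groth.Agent.H16Derived.KFlat Groth.Agent.H16Derived.KFlat.Stalk

variable {X : Scheme.{u}}

theorem nonempty_hd_restrict_iso (V : X.Opens) (E : DCoh.D X) (i : ℤ) :
    Nonempty (DCoh.HD ((DCoh.restrictD V.ι).obj E) i ≅
      (Scheme.Modules.restrictFunctor V.ι).obj (DCoh.HD E i)) := by
  let C := DerivedCategory.Q.objPreimage E
  let e : DerivedCategory.Q.obj C ≅ E := DerivedCategory.Q.objObjPreimageIso E
  let R := Scheme.Modules.restrictFunctor V.ι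
  exact ⟨(DerivedCategory.homologyFunctor _ i).mapIso
      ((DCoh.restrictD V.ι).mapIso e.symm ≪≫ R.mapDerivedCategoryFactors.app C) ≪≫
    (DerivedCategory.homologyFunctorFactors _ i).app _ ≪≫ (C.sc i).mapHomologyIso R ≪≫
    R.mapIso (((DerivedCategory.homologyFunctorFactors _ i).app C).symm ≪≫
      (DerivedCategory.homologyFunctor _ i).mapIso e)⟩

theorem nonempty_hd_extZero_iso (U : X.Opens) [PreservesFiniteLimits (CxOX.extZero U.ι)]
    (F : DCoh.D (U : Scheme.{u})) (i : ℤ) :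
    Nonempty (DCoh.HD ((CxOX.extZeroD U.ι).obj F) i ≅ (CxOX.extZero U.ι).obj (DCoh.HD F i)) := by
  let C := DerivedCategory.Q.objPreimage F
  let e : DerivedCategory.Q.obj C ≅ F := DerivedCategory.Q.objObjPreimageIso F
  let R := CxOX.extZero U.ι
  exact ⟨(DerivedCategory.homologyFunctor _ i).mapIso
      ((CxOX.extZeroD U.ι).mapIso e.symm ≪≫ R.mapDerivedCategoryFactors.app C) ≪≫
    (DerivedCategory.homologyFunctorFactors _ i).app _ ≪≫ (C.sc i).mapHomologyIso R ≪≫
    R.mapIso (((DerivedCategory.homologyFunctorFactors _ i).app C).symm ≪≫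
      (DerivedCategory.homologyFunctor _ i).mapIso e)⟩

theorem isZero_of_hd (E : DCoh.D X) (h : ∀ i, IsZero (DCoh.HD E i)) : IsZero E := by
  let C := DerivedCategory.Q.objPreimage E
  let e : DerivedCategory.Q.obj C ≅ E := DerivedCategory.Q.objObjPreimageIso E
  haveI : QuasiIso (0 : C ⟶ C) := ⟨fun i => by
    rw [quasiIsoAt_iff_isIso_homologyMap]
    have hz : IsZero (C.homology i) := (h i).of_iso
      (((DerivedCategory.homologyFunctorFactors _ i).app C).symm ≪≫
        (DerivedCategory.homologyFunctor _ i).mapIso e)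
    exact ⟨0, hz.eq_of_src _ _, hz.eq_of_src _ _⟩⟩
  haveI : IsIso (DerivedCategory.Q.map (0 : C ⟶ C)) := inferInstance
  refine IsZero.of_iso ?_ e.symm
  rw [Functor.map_zero] at this
  exact (IsZero.iff_id_eq_zero _).2 (((isIsoZeroEquiv _ _).toFun this).1)

theorem mem_support_restrict (V : X.Opens) (M : X.Modules) (x : (V : Scheme.{u})) :
    x ∈ CohB1.support ((Scheme.Modules.restrictFunctor V.ι).obj M) ↔ V.ι.base x ∈ CohB1.support M := by
  let s := ((Scheme.Modules.restrictStalkNatIso V.ι x).app M).addCommGroupIsoToAddEquiv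
  exact not_congr ⟨fun h => @Equiv.subsingleton _ _ s.symm.toEquiv h,
    fun h => @Equiv.subsingleton _ _ s.toEquiv h⟩

theorem support_iso {M N : X.Modules} (e : M ≅ N) : CohB1.support M = CohB1.support N := by
  ext x
  let s := ((Scheme.Modules.toPresheaf X ⋙ TopCat.Presheaf.stalkFunctor _ x).mapIso e).addCommGroupIsoToAddEquiv
  exact not_congr ⟨fun h => @Equiv.subsingleton _ _ s.symm.toEquiv h,
    fun h => @Equiv.subsingleton _ _ s.toEquiv h⟩

theorem isZero_restrictD_of_support (V : X.Opens) (E : DCoh.D X) (T : Set X)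
    (hE : ∀ i : ℤ, CohB1.support (DCoh.HD E i) ⊆ T) (hVT : Disjoint (V : Set X) T) :
    IsZero ((DCoh.restrictD V.ι).obj E) := by
  refine isZero_of_hd _ fun i => ?_
  obtain ⟨e⟩ := nonempty_hd_restrict_iso V E i
  refine IsZero.of_iso (H17.FPExt.isZero_of_stalk _ fun x => ?_) e
  by_contra h
  exact Set.disjoint_left.1 hVT x.2 (hE i ((mem_support_restrict V _ x).1 h))

/-- An object supported in a closed subset inside an open is the direct image of its restriction. -/
theorem nonempty_iso_rpush_restrict (U : X.Opens) [DCoh.HasRpush U.ι] (T : Set X) (hT : IsClosed T)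
    (hTU : T ⊆ (U : Set X)) (E : DCoh.D X) (hE : ∀ i : ℤ, CohB1.support (DCoh.HD E i) ⊆ T) :
    Nonempty (E ≅ (DCoh.Rpush U.ι).obj ((DCoh.restrictD U.ι).obj E)) := by
  let V : X.Opens := ⟨Tᶜ, hT.isOpen_compl⟩
  have hUV : U ⊔ V = ⊤ := top_le_iff.1 fun x _ => (Classical.em (x ∈ T)).imp (fun h => hTU h) id
  haveI := KFlat.GammaAcyclic.hasRpush V.ι
  haveI := KFlat.GammaAcyclic.hasRpush (U ⊓ V).ι
  obtain ⟨a, b, c, hT'⟩ := exists_triangle_rpush U V hUV E
  letI := rpushCommShift V.ι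
  haveI := rpush_isTriangulated V.ι
  letI := rpushCommShift (U ⊓ V).ι
  haveI := rpush_isTriangulated (U ⊓ V).ι
  have hV : IsZero ((DCoh.Rpush V.ι).obj ((DCoh.restrictD V.ι).obj E)) :=
    Functor.map_isZero _ (isZero_restrictD_of_support V E T hE disjoint_compl_left)
  have hW : IsZero ((DCoh.Rpush (U ⊓ V).ι).obj ((DCoh.restrictD (U ⊓ V).ι).obj E)) :=
    Functor.map_isZero _ (isZero_restrictD_of_support _ E T hE
      (Set.disjoint_left.2 fun x hx hxT => hx.2 hxT))
  haveI : IsIso a := (Triangle.isZero₃_iff_isIso₁ _ hT').1 hW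
  exact ⟨asIso a ≪≫ (isoBiprodZero hV).symm⟩

/-- `(Rj_* F)|_U = F`. -/
theorem nonempty_restrictD_rpush (U : X.Opens) [DCoh.HasRpush U.ι] (F : DCoh.D (U : Scheme.{u})) :
    Nonempty ((DCoh.restrictD U.ι).obj ((DCoh.Rpush U.ι).obj F) ≅ F) := by
  obtain ⟨I, hI, -, ⟨e⟩⟩ := exists_rep F
  exact ⟨(DCoh.restrictD U.ι).mapIso (rpushObjIso U.ι I e) ≪≫
    (Scheme.Modules.restrictFunctor U.ι).mapDerivedCategoryFactors.app _ ≪≫
    DerivedCategory.Q.mapIso ((NatIso.mapHomologicalComplex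
      (asIso (Scheme.Modules.restrictAdjunction U.ι).counit) (ComplexShape.up ℤ)).app I ≪≫
      (Functor.mapHomologicalComplexIdIso _ _).app I) ≪≫ e⟩

/-- `(j_! F)|_U = F`. -/
theorem nonempty_restrictD_extZeroD (U : X.Opens) [PreservesFiniteLimits (CxOX.extZero U.ι)]
    (F : DCoh.D (U : Scheme.{u})) :
    Nonempty ((DCoh.restrictD U.ι).obj ((CxOX.extZeroD U.ι).obj F) ≅ F) := by
  haveI := QCohD.MV.isIso_extZero_unit U
  let C := DerivedCategory.Q.objPreimage F
  let e : DerivedCategory.Q.obj C ≅ F := DerivedCategory.Q.objObjPreimageIso F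
  exact ⟨(DCoh.restrictD U.ι).mapIso ((CxOX.extZeroD U.ι).mapIso e.symm ≪≫
      (CxOX.extZero U.ι).mapDerivedCategoryFactors.app C) ≪≫
    (Scheme.Modules.restrictFunctor U.ι).mapDerivedCategoryFactors.app _ ≪≫
    DerivedCategory.Q.mapIso ((NatIso.mapHomologicalComplex
      (asIso (CxOX.extZeroAdj U.ι).unit).symm (ComplexShape.up ℤ)).app C ≪≫
      (Functor.mapHomologicalComplexIdIso _ _).app C) ≪≫ e⟩

theorem support_hd_extZeroD (U : X.Opens) [PreservesFiniteLimits (CxOX.extZero U.ι)]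
    (F : DCoh.D (U : Scheme.{u})) (i : ℤ) :
    CohB1.support (DCoh.HD ((CxOX.extZeroD U.ι).obj F) i) ⊆
      (fun x : (U : Scheme.{u}) => U.ι.base x) '' CohB1.support (DCoh.HD F i) := by
  obtain ⟨e⟩ := nonempty_hd_extZero_iso U F i
  rw [support_iso e]
  intro x hx
  haveI := QCohD.MV.isIso_extZero_unit U
  let M := DCoh.HD F i
  have hxU : x ∈ U := by
    by_contra h
    refine hx ?_
    have h0 := QCohD.MV.isZero_stalk_E U ((CxOX.extZero U.ι).obj M) x h
    have e1 : (QCohD.MV.E U).obj ((CxOX.extZero U.ι).obj M) ≅ (CxOX.extZero U.ι).obj M :=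
      (CxOX.extZero U.ι).mapIso (asIso ((CxOX.extZeroAdj U.ι).unit.app M)).symm
    exact ModuleCat.subsingleton_of_isZero (h0.of_iso ((DerSch.stalkFunctor X x).mapIso e1.symm))
  refine ⟨⟨x, hxU⟩, ?_, rfl⟩
  have h1 := (mem_support_restrict U ((CxOX.extZero U.ι).obj M) ⟨x, hxU⟩).2 hx
  exact (support_iso (asIso ((CxOX.extZeroAdj U.ι).unit.app M))).symm.subset h1

theorem nonempty_extZeroD_iso_rpush (U : X.Opens) [DCoh.HasRpush U.ι]
    [PreservesFiniteLimits (CxOX.extZero U.ι)] (T : Set X) (hT : IsClosed T) (hTU : T ⊆ (U : Set X))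
    (F : DCoh.D (U : Scheme.{u}))
    (hF : ∀ i : ℤ, (fun x : (U : Scheme.{u}) => U.ι.base x) '' CohB1.support (DCoh.HD F i) ⊆ T) :
    Nonempty ((CxOX.extZeroD U.ι).obj F ≅ (DCoh.Rpush U.ι).obj F) := by
  obtain ⟨e⟩ := nonempty_iso_rpush_restrict U T hT hTU ((CxOX.extZeroD U.ι).obj F)
    fun i => (support_hd_extZeroD U F i).trans (hF i)
  obtain ⟨e'⟩ := nonempty_restrictD_extZeroD U F
  exact ⟨e ≪≫ (DCoh.Rpush U.ι).mapIso e'⟩

/-- Direct images of supported perfect objects are perfect. -/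
theorem isPerfect_rpush_of_support (U : X.Opens) [DCoh.HasRpush U.ι] (E : DCoh.D (U : Scheme.{u}))
    (hE : DCoh.IsPerfect E) (T : Set (U : Scheme.{u}))
    (hjT : IsClosed ((fun x : (U : Scheme.{u}) => U.ι.base x) '' T))
    (hsupp : ∀ i : ℤ, CohB1.support (DCoh.HD E i) ⊆ T) : DCoh.IsPerfect ((DCoh.Rpush U.ι).obj E) := by
  haveI := preservesFiniteLimits_extZero U
  have hTU : (fun x : (U : Scheme.{u}) => U.ι.base x) '' T ⊆ (U : Set X) := by
    rintro _ ⟨x, -, rfl⟩; exact x.2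
  obtain ⟨e⟩ := nonempty_extZeroD_iso_rpush U _ hjT hTU E fun i => Set.image_mono (hsupp i)
  obtain ⟨eU⟩ := nonempty_restrictD_rpush U E
  refine isPerfect_of_local fun x => ?_
  by_cases hx : x ∈ U
  · obtain ⟨W, hW, h⟩ := (isPerfect_iff E).1 hE ⟨x, hx⟩
    obtain ⟨P, hP, ⟨α⟩⟩ := h
    refine ⟨W, W.ι ≫ U.ι, inferInstance, ⟨⟨⟨x, hx⟩, hW⟩, rfl⟩, HasPerfModel.of_rd ?_⟩
    exact ⟨P, hP, ⟨α ≪≫ (rd W.ι).mapIso eU.symm⟩⟩
  · let V : X.Opens := ⟨((fun x : (U : Scheme.{u}) => U.ι.base x) '' T)ᶜ, hjT.isOpen_compl⟩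
    refine ⟨V, V.ι, inferInstance, ⟨⟨x, fun h => hx (hTU h)⟩, rfl⟩, ?_⟩
    have hz : IsZero ((DCoh.restrictD V.ι).obj ((CxOX.extZeroD U.ι).obj E)) :=
      isZero_restrictD_of_support V _ _
        (fun i => (support_hd_extZeroD U E i).trans (Set.image_mono (hsupp i))) disjoint_compl_left
    open ZeroObject in
    have hP : DCoh.IsStrictlyPerfect (0 : CochainComplex (V : Scheme.{u}).Modules ℤ) :=
      ⟨⟨0, 0, fun i _ => Functor.map_isZero (HomologicalComplex.eval _ (ComplexShape.up ℤ) i) (isZero_zero _)⟩,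
        fun i => isFinLocFree_of_isZero
          (Functor.map_isZero (HomologicalComplex.eval _ (ComplexShape.up ℤ) i) (isZero_zero _))⟩
    open ZeroObject in
    exact ⟨0, hP, ⟨(DerivedCategory.Q.map_isZero (isZero_zero _)).iso
      (hz.of_iso ((DCoh.restrictD V.ι).mapIso e.symm))⟩⟩

end Groth.Agent.H16Derived.MVPush
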