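import Groth.Agent.H16Derived.MVPush.Tri
import Groth.Agent.H16Derived.KFlat.GammaDerived

/-!
# Mayer–Vietoris triangles for derived direct images and derived global sections
-/

set_option autoImplicit false
set_option linter.style.haveILetI false

universe u

open CategoryTheory CategoryTheory.Limits AlgebraicGeometry Opposite TopologicalSpace
  CategoryTheory.Pretriangulated

attribute [local instance] HasDerivedCategory.standard

namespace Groth.Agent.H16Derived.MVPush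

open Groth.Agent.H16Derived.KFlat Groth.Agent.H16Derived.KFlat.Stalk Groth.Agent.H16Derived.KFlat.GammaAcyclic

variable {X Y : Scheme.{u}}

theorem exists_rep (E : DCoh.D X) :
    ∃ (I : CochainComplex X.Modules ℤ) (_ : I.IsKInjective), (∀ n, Injective (I.X n)) ∧
      Nonempty (DerivedCategory.Q.obj I ≅ E) := by
  haveI := KFlat.Stalk.isGrothendieckAbelian_modules (X := X)
  obtain ⟨N, j, hN⟩ := KInjRes.exists_resolution_functor (A := X.Modules)
  let C := DerivedCategory.Q.objPreimage E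
  haveI : QuasiIso (j.app C) := (hN C).2.1
  exact ⟨N.obj C, (hN C).2.2.1, (hN C).2.2.2,
    ⟨(asIso (DerivedCategory.Q.map (j.app C))).symm ≪≫ DerivedCategory.Q.objObjPreimageIso E⟩⟩

/-- `Rf_*` of a K-injective representative. -/
noncomputable def rpushObjIso (f : X ⟶ Y) [DCoh.HasRpush f] (I : CochainComplex X.Modules ℤ)
    [I.IsKInjective] {E : DCoh.D X} (e : DerivedCategory.Q.obj I ≅ E) :
    (DCoh.Rpush f).obj E ≅
      DerivedCategory.Q.obj (((Scheme.Modules.pushforward f).mapHomologicalComplex (ComplexShape.up ℤ)).obj I) :=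
  haveI := isIso_rpushUnit f I
  (DCoh.Rpush f).mapIso (e.symm ≪≫ (DerivedCategory.quotientCompQhIso _).symm.app I) ≪≫
    (asIso ((rpushUnit f).app ((HomotopyCategory.quotient _ _).obj I))).symm ≪≫
    (DerivedCategory.quotientCompQhIso _).app _

/-- `RΓ` of a K-injective representative. -/
noncomputable def rΓObjIso (X : Scheme.{u}) [DCoh.HasRΓ X] (I : CochainComplex X.Modules ℤ)
    [I.IsKInjective] {E : DCoh.D X} (e : DerivedCategory.Q.obj I ≅ E) :
    (DCoh.RΓ X).obj E ≅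
      DerivedCategory.Q.obj (((DCoh.gammaAb X).mapHomologicalComplex (ComplexShape.up ℤ)).obj I) :=
  haveI := isIso_gammaUnit X I
  (DCoh.RΓ X).mapIso (e.symm ≪≫ (DerivedCategory.quotientCompQhIso _).symm.app I) ≪≫
    (asIso ((gammaUnit X).app ((HomotopyCategory.quotient _ _).obj I))).symm ≪≫
    (DerivedCategory.quotientCompQhIso _).app _

/-- The restricted representative. -/
noncomputable def restrictObjIso (W : X.Opens) (I : CochainComplex X.Modules ℤ) {E : DCoh.D X}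
    (e : DerivedCategory.Q.obj I ≅ E) :
    DerivedCategory.Q.obj ((DCoh.restrictCx W).obj I) ≅ (DCoh.restrictD W.ι).obj E :=
  ((Scheme.Modules.restrictFunctor W.ι).mapDerivedCategoryFactors.app I).symm ≪≫
    (DCoh.restrictD W.ι).mapIso e

instance : PreservesFiniteLimits (DCoh.gammaAb X) :=
  haveI : PreservesFiniteLimits (Scheme.Modules.toPresheaf X) :=
    @PreservesLimitsOfSize.preservesFiniteLimits.{u, u} _ _ _ _ _ inferInstance
  haveI : PreservesFiniteLimits ((evaluation X.Opensᵒᵖ AddCommGrpCat.{u}).obj (op ⊤)) :=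
    @PreservesLimitsOfSize.preservesFiniteLimits.{u, u} _ _ _ _ _ inferInstance
  comp_preservesFiniteLimits (Scheme.Modules.toPresheaf X) ((evaluation X.Opensᵒᵖ AddCommGrpCat.{u}).obj (op ⊤))

variable (U V : X.Opens) (hUV : U ⊔ V = ⊤) (E : DCoh.D X)
include hUV

theorem exists_triangle_rpush [DCoh.HasRpush U.ι] [DCoh.HasRpush V.ι] [DCoh.HasRpush (U ⊓ V).ι] :
    ∃ (a : E ⟶ ((DCoh.Rpush U.ι).obj ((DCoh.restrictD U.ι).obj E) ⊞ (DCoh.Rpush V.ι).obj ((DCoh.restrictD V.ι).obj E))) (b : ((DCoh.Rpush U.ι).obj ((DCoh.restrictD U.ι).obj E) ⊞ (DCoh.Rpush V.ι).obj ((DCoh.restrictD V.ι).obj E)) ⟶ (DCoh.Rpush (U ⊓ V).ι).obj ((DCoh.restrictD (U ⊓ V).ι).obj E)) (c : (DCoh.Rpush (U ⊓ V).ι).obj ((DCoh.restrictD (U ⊓ V).ι).obj E) ⟶ (E)⟦(1 : ℤ)⟧),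
      Triangle.mk a b c ∈ distTriang (DCoh.D X) := by
  obtain ⟨I, hI, hinj, ⟨e⟩⟩ := exists_rep E
  haveI := isKInjective_restrict U I
  haveI := isKInjective_restrict V I
  haveI := isKInjective_restrict (U ⊓ V) I
  exact exists_triangle (B := X.Modules) (𝟭 X.Modules) (I := I) hUV hinj (fun M hM => haveI := hM; epi_g M)
    e.symm (rpushObjIso U.ι _ (restrictObjIso U I e)) (rpushObjIso V.ι _ (restrictObjIso V I e))
    (rpushObjIso (U ⊓ V).ι _ (restrictObjIso (U ⊓ V) I e))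

theorem exists_triangle_rpush_rel (f : X ⟶ Y) [DCoh.HasRpush f] [DCoh.HasRpush (U.ι ≫ f)]
    [DCoh.HasRpush (V.ι ≫ f)] [DCoh.HasRpush ((U ⊓ V).ι ≫ f)] :
    ∃ (a : (DCoh.Rpush f).obj E ⟶ ((DCoh.Rpush (U.ι ≫ f)).obj ((DCoh.restrictD U.ι).obj E) ⊞ (DCoh.Rpush (V.ι ≫ f)).obj ((DCoh.restrictD V.ι).obj E))) (b : ((DCoh.Rpush (U.ι ≫ f)).obj ((DCoh.restrictD U.ι).obj E) ⊞ (DCoh.Rpush (V.ι ≫ f)).obj ((DCoh.restrictD V.ι).obj E)) ⟶ (DCoh.Rpush ((U ⊓ V).ι ≫ f)).obj ((DCoh.restrictD (U ⊓ V).ι).obj E)) (c : (DCoh.Rpush ((U ⊓ V).ι ≫ f)).obj ((DCoh.restrictD (U ⊓ V).ι).obj E) ⟶ ((DCoh.Rpush f).obj E)⟦(1 : ℤ)⟧),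
      Triangle.mk a b c ∈ distTriang (DCoh.D Y) := by
  obtain ⟨I, hI, hinj, ⟨e⟩⟩ := exists_rep E
  haveI := isKInjective_restrict U I
  haveI := isKInjective_restrict V I
  haveI := isKInjective_restrict (U ⊓ V) I
  let c : ∀ W : X.Opens, DerivedCategory.Q.obj (((Scheme.Modules.pushforward (W.ι ≫ f)).mapHomologicalComplex
      (ComplexShape.up ℤ)).obj ((DCoh.restrictCx W).obj I)) ≅
      DerivedCategory.Q.obj (((Scheme.Modules.pushforward f).mapHomologicalComplex (ComplexShape.up ℤ)).obj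
        ((PC W).obj I)) := fun W =>
    DerivedCategory.Q.mapIso ((NatIso.mapHomologicalComplex (Scheme.Modules.pushforwardComp W.ι f)
      (ComplexShape.up ℤ)).symm.app _)
  refine exists_triangle (B := Y.Modules) (Scheme.Modules.pushforward f) (I := I) hUV hinj (fun M hM => ?_)
    (rpushObjIso f I e) (rpushObjIso _ _ (restrictObjIso U I e) ≪≫ c U)
    (rpushObjIso _ _ (restrictObjIso V I e) ≪≫ c V)
    (rpushObjIso _ _ (restrictObjIso (U ⊓ V) I e) ≪≫ c (U ⊓ V))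
  haveI := hM
  refine H11Tilde.epi_of_locally_surjective _ fun W t x hx => ⟨W, le_rfl, hx, ?_⟩
  obtain ⟨s, hs⟩ := surjective_g (U := U) (V := V) M (f ⁻¹ᵁ W) t
  exact ⟨s, hs.trans (by simp; rfl)⟩

theorem exists_triangle_rΓ [DCoh.HasRΓ X] [DCoh.HasRΓ (U : Scheme.{u})] [DCoh.HasRΓ (V : Scheme.{u})]
    [DCoh.HasRΓ (U ⊓ V : X.Opens)] :
    ∃ (a : (DCoh.RΓ X).obj E ⟶ ((DCoh.RΓ (U : Scheme.{u})).obj ((DCoh.restrictD U.ι).obj E) ⊞ (DCoh.RΓ (V : Scheme.{u})).obj ((DCoh.restrictD V.ι).obj E))) (b : ((DCoh.RΓ (U : Scheme.{u})).obj ((DCoh.restrictD U.ι).obj E) ⊞ (DCoh.RΓ (V : Scheme.{u})).obj ((DCoh.restrictD V.ι).obj E)) ⟶ (DCoh.RΓ (U ⊓ V : X.Opens)).obj ((DCoh.restrictD (U ⊓ V).ι).obj E)) (c : (DCoh.RΓ (U ⊓ V : X.Opens)).obj ((DCoh.restrictD (U ⊓ V).ι).obj E) ⟶ ((DCoh.RΓ X).obj E)⟦(1 : ℤ)⟧),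
      Triangle.mk a b c ∈ distTriang (DerivedCategory AddCommGrpCat.{u}) := by
  obtain ⟨I, hI, hinj, ⟨e⟩⟩ := exists_rep E
  haveI := isKInjective_restrict U I
  haveI := isKInjective_restrict V I
  haveI := isKInjective_restrict (U ⊓ V) I
  exact exists_triangle (B := AddCommGrpCat.{u}) (DCoh.gammaAb X) (I := I) hUV hinj
    (fun M hM => haveI := hM; (AddCommGrpCat.epi_iff_surjective _).2 (surjective_g M ⊤))
    (rΓObjIso X I e) (rΓObjIso _ _ (restrictObjIso U I e)) (rΓObjIso _ _ (restrictObjIso V I e))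
    (rΓObjIso _ _ (restrictObjIso (U ⊓ V) I e))

end Groth.Agent.H16Derived.MVPush
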