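import Groth.Agent.H10Coh.ModRes
import Groth.Agent.H11Tilde.ModLoc

/-!
# The Mayer–Vietoris sequence of sections of an injective module
-/

set_option autoImplicit false
set_option linter.style.haveILetI false

universe u

open CategoryTheory CategoryTheory.Limits AlgebraicGeometry Opposite TopologicalSpace

namespace Groth.Agent.H16Derived.MVPush

variable {X : Scheme.{u}}

/-- `M ↦ j_* (M|_W)`. -/
noncomputable abbrev P (W : X.Opens) : X.Modules ⥤ X.Modules :=
  Scheme.Modules.restrictFunctor W.ι ⋙ Scheme.Modules.pushforward W.ι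

/-- The restriction `M ⟶ j_* (M|_W)`. -/
noncomputable abbrev η (W : X.Opens) : 𝟭 X.Modules ⟶ P W :=
  (Scheme.Modules.restrictAdjunction W.ι).unit

/-- The open of `X` underlying the sections of `P W` over `T`. -/
abbrev cap (W T : X.Opens) : X.Opens := W.ι ''ᵁ (W.ι ⁻¹ᵁ T)

lemma cap_eq (W T : X.Opens) : cap W T = W ⊓ T := by
  rw [cap, Scheme.Hom.image_preimage_eq_opensRange_inf, Scheme.Opens.opensRange_ι]

lemma cap_le (W T : X.Opens) : cap W T ≤ T := (cap_eq W T).le.trans inf_le_right

lemma cap_mono {W U : X.Opens} (h : W ≤ U) (T : X.Opens) : cap W T ≤ cap U T := by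
  rw [cap_eq, cap_eq]; exact inf_le_inf_right T h

lemma res_res (M : X.Modules) {A B C : X.Opens} (h : B ≤ A) (h' : C ≤ B) :
    M.presheaf.map (homOfLE h).op ≫ M.presheaf.map (homOfLE h').op =
      M.presheaf.map (homOfLE (h'.trans h)).op := by
  rw [← Functor.map_comp]; rfl

lemma isIso_res (M : X.Modules) {A B : X.Opens} (h : B ≤ A) (e : A ≤ B) :
    IsIso (M.presheaf.map (homOfLE h).op) := by
  obtain rfl : A = B := le_antisymm e h
  exact (inferInstance : IsIso (M.presheaf.map (𝟙 (op A))))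

lemma app_η (W : X.Opens) (M : X.Modules) (T : X.Opens) :
    ((η W).app M).app T = M.presheaf.map (homOfLE (cap_le W T)).op := rfl

lemma app_P_map_η {W U : X.Opens} (M : X.Modules) (T : X.Opens) :
    ((P W).map ((η U).app M)).app T = M.presheaf.map (homOfLE (cap_le U (cap W T))).op := rfl

lemma app_η_P (W U : X.Opens) (M : X.Modules) (T : X.Opens) :
    ((η W).app ((P U).obj M)).app T =
      M.presheaf.map (homOfLE (show cap U (cap W T) ≤ cap U T by
        rw [cap_eq, cap_eq, cap_eq]; exact inf_le_inf_left U inf_le_right)).op := rfl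

theorem isIso_P_map_η {W U : X.Opens} (h : W ≤ U) (M : X.Modules) : IsIso ((P W).map ((η U).app M)) := by
  rw [Scheme.Modules.Hom.isIso_iff_isIso_app]
  intro T
  rw [app_P_map_η]
  exact isIso_res M _ (by rw [cap_eq U, cap_eq W]; exact le_inf (inf_le_left.trans h) le_rfl)

/-- The transition `j_{U*}(M|_U) ⟶ j_{W*}(M|_W)`. -/
noncomputable def tr {W U : X.Opens} (h : W ≤ U) : P U ⟶ P W :=
  haveI : ∀ M, IsIso ((Functor.whiskerRight (η U) (P W)).app M) := fun M => isIso_P_map_η h M
  haveI := NatIso.isIso_of_isIso_app (Functor.whiskerRight (η U) (P W))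
  (P U).rightUnitor.inv ≫ Functor.whiskerLeft (P U) (η W) ≫
    inv (Functor.whiskerRight (η U) (P W)) ≫ (P W).leftUnitor.hom

lemma app_tr {W U : X.Opens} (h : W ≤ U) (M : X.Modules) (T : X.Opens) :
    ((tr h).app M).app T = M.presheaf.map (homOfLE (cap_mono h T)).op := by
  haveI : ∀ M, IsIso ((Functor.whiskerRight (η U) (P W)).app M) := fun M => isIso_P_map_η h M
  haveI := NatIso.isIso_of_isIso_app (Functor.whiskerRight (η U) (P W))
  haveI := isIso_P_map_η h M
  have e : (tr h).app M ≫ (P W).map ((η U).app M) = (η W).app ((P U).obj M) := by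
    simp [tr]
  haveI : IsIso (M.presheaf.map (homOfLE (cap_le U (cap W T))).op) :=
    isIso_res M _ (by rw [cap_eq U, cap_eq W]; exact le_inf (inf_le_left.trans h) le_rfl)
  have e' := congrArg (fun k => Scheme.Modules.Hom.app k T) e
  rw [Scheme.Modules.Hom.comp_app, app_P_map_η, app_η_P] at e'
  exact (cancel_mono (M.presheaf.map (homOfLE (cap_le U (cap W T))).op)).1
    (e'.trans (res_res M _ _).symm)

variable (U V : X.Opens)

/-- The sequence at a module. -/
noncomputable abbrev seq (M : X.Modules) : ShortComplex X.Modules :=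
  ShortComplex.mk (biprod.lift ((η U).app M) ((η V).app M))
    (biprod.desc ((tr (inf_le_left : U ⊓ V ≤ U)).app M) (-(tr (inf_le_right : U ⊓ V ≤ V)).app M)) (by
    rw [biprod.lift_desc, Preadditive.comp_neg, add_neg_eq_zero]
    refine Scheme.Modules.hom_ext _ _ fun T => ?_
    rw [Scheme.Modules.Hom.comp_app, Scheme.Modules.Hom.comp_app,
      app_η, app_η, app_tr, app_tr]
    exact (res_res M _ _).trans (res_res M _ _).symm)

variable {U V}

/-- The difference map is surjective on sections for injective modules. -/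
theorem surjective_g (M : X.Modules) [Injective M] (T : X.Opens) :
    Function.Surjective ((seq U V M).g.app T) := by
  intro s
  obtain ⟨t, ht⟩ := H10Coh.flasque_sh_of_injective M (cap_mono (inf_le_left : U ⊓ V ≤ U) T) s
  refine ⟨(biprod.inl : (P U).obj M ⟶ _).app T t, ?_⟩
  have h : (biprod.inl : (P U).obj M ⟶ _) ≫ (seq U V M).g = (tr inf_le_left).app M := biprod.inl_desc _ _
  have h' := congr($(congrArg (fun k => Scheme.Modules.Hom.app k T) h) t)
  rw [app_tr] at h'
  exact h'.trans ht

theorem epi_g (M : X.Modules) [Injective M] : Epi (seq U V M).g :=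
  H11Tilde.epi_of_locally_surjective _ fun W t x hx =>
    ⟨W, le_rfl, hx, by
      obtain ⟨s, hs⟩ := surjective_g M W t
      exact ⟨s, hs.trans (by simp; rfl)⟩⟩

theorem eq_of_res (hUV : U ⊔ V = ⊤) (M : X.Modules) {T : X.Opens} (s t : Γ(M, T))
    (hU : M.presheaf.map (homOfLE (cap_le U T)).op s = M.presheaf.map (homOfLE (cap_le U T)).op t)
    (hV : M.presheaf.map (homOfLE (cap_le V T)).op s = M.presheaf.map (homOfLE (cap_le V T)).op t) :
    s = t := by
  refine H11Tilde.eq_of_locally _ _ fun x hx => ?_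
  rcases (hUV ▸ trivial : x ∈ U ⊔ V) with h | h
  · exact ⟨_, cap_le U T, (cap_eq U T).ge ⟨h, hx⟩, hU⟩
  · exact ⟨_, cap_le V T, (cap_eq V T).ge ⟨h, hx⟩, hV⟩

theorem mono_f (hUV : U ⊔ V = ⊤) (M : X.Modules) : Mono (seq U V M).f := by
  refine Preadditive.mono_of_cancel_zero _ fun {H} k hk => ?_
  have h1 : k ≫ (η U).app M = 0 := by simpa using hk =≫ biprod.fst
  have h2 : k ≫ (η V).app M = 0 := by simpa using hk =≫ biprod.snd
  refine Scheme.Modules.hom_ext _ _ fun T => ?_
  ext t
  exact eq_of_res hUV M _ _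
    ((congr($(congrArg (fun z => Scheme.Modules.Hom.app z T) h1) t)).trans (map_zero _).symm)
    ((congr($(congrArg (fun z => Scheme.Modules.Hom.app z T) h2) t)).trans (map_zero _).symm)

theorem exact_seq (hUV : U ⊔ V = ⊤) (M : X.Modules) : (seq U V M).Exact := by
  refine H11Tilde.exact_of_locally _ fun T t ht x hx => ?_
  refine ⟨T, le_rfl, hx, ?_⟩
  let a : Γ(M, cap U T) := (biprod.fst : (seq U V M).X₂ ⟶ (P U).obj M).app T t
  let b : Γ(M, cap V T) := (biprod.snd : (seq U V M).X₂ ⟶ (P V).obj M).app T t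
  have hab : M.presheaf.map (homOfLE (cap_mono (inf_le_left : U ⊓ V ≤ U) T)).op a =
      M.presheaf.map (homOfLE (cap_mono (inf_le_right : U ⊓ V ≤ V) T)).op b := by
    rw [← sub_eq_zero, sub_eq_add_neg]
    have h : (seq U V M).g = biprod.fst ≫ (tr inf_le_left).app M -
        biprod.snd ≫ (tr inf_le_right).app M := by
      apply biprod.hom_ext' <;> simp
    rw [h, Scheme.Modules.Hom.sub_app, Scheme.Modules.Hom.comp_app, Scheme.Modules.Hom.comp_app,
      app_tr, app_tr] at ht
    exact (sub_eq_add_neg _ _).symm.trans ht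
  let F : TopCat.Sheaf Ab X := ⟨M.presheaf, M.isSheaf⟩
  let A : Bool → X.Opens := fun i => cond i (cap U T) (cap V T)
  let sf : ∀ i, Γ(M, A i) := fun i => Bool.rec b a i
  have hA : T ≤ ⨆ i : Bool, A i := fun y hy => by
    rcases (hUV ▸ trivial : y ∈ U ⊔ V) with h | h
    · exact Opens.mem_iSup.2 ⟨true, (cap_eq U T).ge ⟨h, hy⟩⟩
    · exact Opens.mem_iSup.2 ⟨false, (cap_eq V T).ge ⟨h, hy⟩⟩
  have hAT : ∀ i, A i ≤ T := fun i => by cases i <;> exact cap_le _ T
  have key : ∀ {B : X.Opens} (h₁ : B ≤ cap U T) (h₂ : B ≤ cap V T),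
      M.presheaf.map (homOfLE h₁).op a = M.presheaf.map (homOfLE h₂).op b := fun {B} h₁ h₂ => by
    have hB : B ≤ cap (U ⊓ V) T := by
      rw [cap_eq] at h₁ h₂ ⊢
      exact le_inf (le_inf (h₁.trans inf_le_left) (h₂.trans inf_le_left)) (h₁.trans inf_le_right)
    have := congrArg (M.presheaf.map (homOfLE hB).op) hab
    rw [← ConcreteCategory.comp_apply, ← ConcreteCategory.comp_apply, res_res, res_res] at this
    exact this
  obtain ⟨s, hs, -⟩ := F.existsUnique_gluing' A T (fun i => homOfLE (hAT i)) hA sf (by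
    rintro (_ | _) (_ | _)
    · rfl
    · exact (key _ _).symm
    · exact key _ _
    · rfl)
  refine ⟨s, ?_⟩
  have hres : (seq U V M).X₂.presheaf.map (homOfLE (le_refl T)).op t = t := by simp
  rw [hres]
  have h1 : ((seq U V M).f ≫ biprod.fst).app T s = a := by
    rw [biprod.lift_fst, app_η]; exact hs true
  have h2 : ((seq U V M).f ≫ biprod.snd).app T s = b := by
    rw [biprod.lift_snd, app_η]; exact hs false
  have htot := congr($(congrArg (fun k => Scheme.Modules.Hom.app k T)
    (biprod.total : biprod.fst ≫ biprod.inl + biprod.snd ≫ biprod.inr = 𝟙 (seq U V M).X₂)) ((seq U V M).f.app T s))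
  have htot' := congr($(congrArg (fun k => Scheme.Modules.Hom.app k T)
    (biprod.total : biprod.fst ≫ biprod.inl + biprod.snd ≫ biprod.inr = 𝟙 (seq U V M).X₂)) t)
  refine htot.symm.trans (Eq.trans ?_ htot')
  exact congrArg₂ (· + ·) (congrArg ((biprod.inl : (P U).obj M ⟶ _).app T) h1)
    (congrArg ((biprod.inr : (P V).obj M ⟶ _).app T) h2)

theorem shortExact_seq (hUV : U ⊔ V = ⊤) (M : X.Modules) [Injective M] : (seq U V M).ShortExact where
  exact := exact_seq hUV M
  mono_f := mono_f hUV M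
  epi_g := epi_g M

end Groth.Agent.H16Derived.MVPush
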