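import Groth.Agent.H16Derived.MVPush.Seq
import Mathlib.Algebra.Homology.DerivedCategory.SingleTriangle
import Mathlib.Algebra.Homology.HomologicalComplexAbelian

/-!
# Mayer–Vietoris triangles of sections of complexes of injective modules
-/

set_option autoImplicit false
set_option linter.style.haveILetI false

universe u v w

open CategoryTheory CategoryTheory.Limits AlgebraicGeometry Opposite TopologicalSpace
  CategoryTheory.Pretriangulated

attribute [local instance] HasDerivedCategory.standard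

namespace Groth.Agent.H16Derived.MVPush

variable {X : Scheme.{u}}

/-- `P` on complexes. -/
noncomputable abbrev PC (W : X.Opens) : CochainComplex X.Modules ℤ ⥤ CochainComplex X.Modules ℤ :=
  (P W).mapHomologicalComplex (ComplexShape.up ℤ)

/-- The restriction on complexes. -/
noncomputable def ηC (W : X.Opens) (I : CochainComplex X.Modules ℤ) : I ⟶ (PC W).obj I where
  f i := (η W).app (I.X i)
  comm' i j _ := ((η W).naturality (I.d i j)).symm

/-- The transition on complexes. -/
noncomputable def trC {W U : X.Opens} (h : W ≤ U) (I : CochainComplex X.Modules ℤ) :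
    (PC U).obj I ⟶ (PC W).obj I where
  f i := (tr h).app (I.X i)
  comm' i j _ := ((tr h).naturality (I.d i j)).symm

variable (U V : X.Opens) (I : CochainComplex X.Modules ℤ)

/-- The sequence of complexes. -/
noncomputable def seqC : ShortComplex (CochainComplex X.Modules ℤ) :=
  ShortComplex.mk (biprod.lift (ηC U I) (ηC V I))
    (biprod.desc (trC (inf_le_left : U ⊓ V ≤ U) I) (-trC (inf_le_right : U ⊓ V ≤ V) I)) (by
    rw [biprod.lift_desc, Preadditive.comp_neg, add_neg_eq_zero]
    refine HomologicalComplex.hom_ext _ _ fun i => ?_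
    have h := (seq U V (I.X i)).zero
    rw [biprod.lift_desc, Preadditive.comp_neg, add_neg_eq_zero] at h
    exact h)

variable {U V I}

theorem nonempty_seqC_eval_iso (n : ℤ) :
    Nonempty ((seqC U V I).map (HomologicalComplex.eval X.Modules (ComplexShape.up ℤ) n) ≅
      seq U V (I.X n)) := by
  let ev := HomologicalComplex.eval X.Modules (ComplexShape.up ℤ) n
  haveI := preservesBinaryBiproducts_of_preservesBiproducts ev
  refine ⟨ShortComplex.isoMk (Iso.refl _) (ev.mapBiprod _ _) (Iso.refl _) ?_ ?_⟩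
  · have e1 : ((seqC U V I).f).f n ≫ (biprod.fst : (PC U).obj I ⊞ (PC V).obj I ⟶ _).f n = (η U).app (I.X n) :=
      congr($(biprod.lift_fst (ηC U I) (ηC V I)).f n)
    have e2 : ((seqC U V I).f).f n ≫ (biprod.snd : (PC U).obj I ⊞ (PC V).obj I ⟶ _).f n = (η V).app (I.X n) :=
      congr($(biprod.lift_snd (ηC U I) (ηC V I)).f n)
    apply biprod.hom_ext
    · refine (Category.assoc _ _ _).trans ((congrArg (𝟙 (I.X n) ≫ ·) (biprod.lift_fst _ _)).trans
        ((Category.id_comp _).trans (e1.symm.trans ?_)))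
      exact ((congrArg ((seqC U V I).f.f n ≫ ·) (biprod.lift_fst _ _)).symm).trans (Category.assoc _ _ _).symm
    · refine (Category.assoc _ _ _).trans ((congrArg (𝟙 (I.X n) ≫ ·) (biprod.lift_snd _ _)).trans
        ((Category.id_comp _).trans (e2.symm.trans ?_)))
      exact ((congrArg ((seqC U V I).f.f n ≫ ·) (biprod.lift_snd _ _)).symm).trans (Category.assoc _ _ _).symm
  · have e1 : (biprod.inl : _ ⟶ (PC U).obj I ⊞ (PC V).obj I).f n ≫ ((seqC U V I).g).f n =
        (tr inf_le_left).app (I.X n) :=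
      congr($(biprod.inl_desc (trC (inf_le_left : U ⊓ V ≤ U) I) (-trC inf_le_right I)).f n)
    have e2 : (biprod.inr : _ ⟶ (PC U).obj I ⊞ (PC V).obj I).f n ≫ ((seqC U V I).g).f n =
        -(tr inf_le_right).app (I.X n) :=
      congr($(biprod.inr_desc (trC (inf_le_left : U ⊓ V ≤ U) I) (-trC inf_le_right I)).f n)
    refine (cancel_epi (ev.mapBiprod ((PC U).obj I) ((PC V).obj I)).inv).1 ?_
    refine (Iso.inv_hom_id_assoc (ev.mapBiprod ((PC U).obj I) ((PC V).obj I)) _).trans ?_
    apply biprod.hom_ext'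
    · refine (biprod.inl_desc _ _).trans (e1.symm.trans (((congrArg ((biprod.inl : _ ⟶ (PC U).obj I ⊞ (PC V).obj I).f n ≫ ·)
        (Category.comp_id ((seqC U V I).g.f n))).symm).trans ?_))
      exact ((congrArg (· ≫ _) (biprod.inl_desc _ _)).symm).trans (Category.assoc _ _ _)
    · refine (biprod.inr_desc _ _).trans (e2.symm.trans (((congrArg ((biprod.inr : _ ⟶ (PC U).obj I ⊞ (PC V).obj I).f n ≫ ·)
        (Category.comp_id ((seqC U V I).g.f n))).symm).trans ?_))
      exact ((congrArg (· ≫ _) (biprod.inr_desc _ _)).symm).trans (Category.assoc _ _ _)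

variable {B : Type v} [Category.{w} B] [Abelian B] (F : X.Modules ⥤ B) [F.Additive]
  [PreservesFiniteLimits F]

theorem shortExact_map (hUV : U ⊔ V = ⊤) (hinj : ∀ n, Injective (I.X n))
    (hepi : ∀ (M : X.Modules), Injective M → Epi (F.map (seq U V M).g)) :
    ((seqC U V I).map (F.mapHomologicalComplex (ComplexShape.up ℤ))).ShortExact := by
  refine HomologicalComplex.shortExact_of_degreewise_shortExact _ fun n => ?_
  obtain ⟨e⟩ := nonempty_seqC_eval_iso (U := U) (V := V) (I := I) n
  refine ShortComplex.shortExact_of_iso (F.mapShortComplex.mapIso e).symm ?_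
  haveI := hinj n
  have h := shortExact_seq hUV (I.X n)
  haveI := h.mono_f
  haveI := hepi (I.X n) inferInstance
  exact ShortComplex.ShortExact.mk' (ShortComplex.Exact.map_of_mono_of_preservesKernel h.exact F h.mono_f
    inferInstance) (inferInstanceAs (Mono (F.map (seq U V (I.X n)).f))) (hepi (I.X n) inferInstance)

theorem exists_triangle (hUV : U ⊔ V = ⊤) (hinj : ∀ n, Injective (I.X n))
    (hepi : ∀ (M : X.Modules), Injective M → Epi (F.map (seq U V M).g))
    {A AU AV AW : DerivedCategory B}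
    (e : A ≅ DerivedCategory.Q.obj ((F.mapHomologicalComplex (ComplexShape.up ℤ)).obj I))
    (eU : AU ≅ DerivedCategory.Q.obj ((F.mapHomologicalComplex (ComplexShape.up ℤ)).obj ((PC U).obj I)))
    (eV : AV ≅ DerivedCategory.Q.obj ((F.mapHomologicalComplex (ComplexShape.up ℤ)).obj ((PC V).obj I)))
    (eW : AW ≅ DerivedCategory.Q.obj
      ((F.mapHomologicalComplex (ComplexShape.up ℤ)).obj ((PC (U ⊓ V)).obj I))) :
    ∃ (a : A ⟶ AU ⊞ AV) (b : AU ⊞ AV ⟶ AW) (c : AW ⟶ A⟦(1 : ℤ)⟧),
      Triangle.mk a b c ∈ distTriang (DerivedCategory B) := by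
  let Φ : CochainComplex X.Modules ℤ ⥤ DerivedCategory B :=
    F.mapHomologicalComplex (ComplexShape.up ℤ) ⋙ DerivedCategory.Q
  haveI : Φ.Additive :=
    inferInstanceAs (F.mapHomologicalComplex (ComplexShape.up ℤ) ⋙ DerivedCategory.Q).Additive
  haveI := preservesBinaryBiproducts_of_preservesBiproducts Φ
  let hS := shortExact_map F hUV hinj hepi
  let e₂ : AU ⊞ AV ≅ Φ.obj ((PC U).obj I ⊞ (PC V).obj I) :=
    biprod.mapIso eU eV ≪≫ (Φ.mapBiprod _ _).symm
  let S := seqC U V I
  let δ := DerivedCategory.triangleOfSESδ hS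
  refine ⟨e.hom ≫ Φ.map S.f ≫ e₂.inv, e₂.hom ≫ Φ.map S.g ≫ eW.inv, eW.hom ≫ δ ≫ e.inv⟦(1 : ℤ)⟧',
    isomorphic_distinguished _ (DerivedCategory.triangleOfSES_distinguished hS) _
      (Triangle.isoMk _ _ e e₂ eW ?_ ?_ ?_)⟩
  · exact (Category.assoc _ _ _).trans (congrArg (e.hom ≫ ·)
      ((Category.assoc _ _ _).trans ((congrArg (Φ.map S.f ≫ ·) e₂.inv_hom_id).trans (Category.comp_id _))))
  · exact (Category.assoc _ _ _).trans (congrArg (e₂.hom ≫ ·)
      ((Category.assoc _ _ _).trans ((congrArg (Φ.map S.g ≫ ·) eW.inv_hom_id).trans (Category.comp_id _))))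
  · refine (Category.assoc _ _ _).trans (congrArg (eW.hom ≫ ·) ?_)
    refine (Category.assoc _ _ _).trans ?_
    refine (congrArg (fun t => δ ≫ t) ?_).trans (Category.comp_id _)
    exact ((shiftFunctor (DerivedCategory B) (1 : ℤ)).map_comp _ _).symm.trans
      ((congrArg _ e.inv_hom_id).trans ((shiftFunctor (DerivedCategory B) (1 : ℤ)).map_id _))

end Groth.Agent.H16Derived.MVPush
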